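import Mathlib
import Cfsg.Prelude.Def_Classical
import Cfsg.Prelude.Def_KGroupFacts
import Cfsg.Agent.Helper2.S2096.Defs
import Cfsg.Agent.Helper2.S2400.Defs

set_option autoImplicit false
set_option linter.unusedSectionVars false
set_option linter.unusedVariables false

/-! S2092 (Schur multiplier of `PSp_{2n}(q)`): common definitions (driver helper10).

Signed indices `J n = Fin n ⊕ Fin n` as in S3352/S2096 (`inl i = e_i`, `inr i = f_i = -e_i`, `ng` negation,
`IsRoot a b : a ≠ b ∧ a ≠ ng b`, `ab` absolute value).  Roots of `C_n`: the SHORT root `ε_a - ε_b` is the pair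
`(a, b)` with `IsRoot a b` (`(a, b)` and `(ng b, ng a)` are the same root), the LONG root `2 ε_a` is `a`.
`sgF a = ±1` is the sign of `a` (`+1` for `inl`).

Model in Mathlib's `Matrix.symplecticGroup (Fin n) F` (`A * J * Aᵀ = J`, `J = [[0, -1], [1, 0]]`):
`xs a b t = 1 + t (E_{a,b} - sg(a) sg(b) E_{-b,-a})`, `xl a t = 1 + t E_{a,-a}`.
`CRel Xs Xl`: the Steinberg relations of type `C_n` (all validated numerically in the model, every characteristic).
`CnT n F G`: root elements with `CRel` and a torus `H : (Fin n → Fˣ) →* G` acting through the characters `chi`.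
The circle of a pair `i ≠ j` (helper2's S2400 conventions: `ρ_k`, `k : ZMod 8`, short for even `k`):
`ρ_0 = e_i - e_j, ρ_1 = 2e_i, ρ_2 = e_i + e_j, ρ_3 = 2e_j, ρ_4 = e_j - e_i, ρ_5 = -2e_i, ρ_6 = -e_i - e_j, ρ_7 = -2e_j`;
`cX Xs Xl i j k t` is the root element of `ρ_k`, with the parameter NEGATED for `k = 3, 7`, so that the signs are
EXACTLY helper2's tables `E1 E2 E3` (validated numerically). -/

namespace Cfsg.Agent.S2092P

open scoped commutatorElement
open Cfsg.Agent.S3352P Cfsg.Agent.S2096P Cfsg.Agent.S2400P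

/-- the sign of a signed index, in a field -/
def sgF {n : ℕ} (F : Type*) [Field F] (a : J n) : F := Sum.elim (fun _ => (1 : F)) (fun _ => (-1 : F)) a

@[simp] theorem sgF_inl {n : ℕ} (F : Type*) [Field F] (i : Fin n) : sgF F (Sum.inl i : J n) = 1 := rfl
@[simp] theorem sgF_inr {n : ℕ} (F : Type*) [Field F] (i : Fin n) : sgF F (Sum.inr i : J n) = -1 := rfl

theorem sgF_mul_self {n : ℕ} (F : Type*) [Field F] (a : J n) : sgF F a * sgF F a = 1 := by
  cases a <;> simp

theorem sgF_ng {n : ℕ} (F : Type*) [Field F] (a : J n) : sgF F (ng a) = - sgF F a := by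
  cases a <;> simp

variable {n : ℕ} {F : Type*} [Field F] {M : Type*} [Group M]

/-- the Steinberg relations of type `C_n` for families `Xs a b t` (short roots) and `Xl a t` (long roots) -/
structure CRel (Xs : J n → J n → F → M) (Xl : J n → F → M) : Prop where
  flip : ∀ a b, IsRoot a b → ∀ t : F, Xs (ng b) (ng a) t = Xs a b (-(sgF F a * sgF F b) * t)
  adds : ∀ a b, IsRoot a b → ∀ s t : F, Xs a b (s + t) = Xs a b s * Xs a b t
  addl : ∀ a, ∀ s t : F, Xl a (s + t) = Xl a s * Xl a t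
  mul : ∀ a b c, IsRoot a b → IsRoot b c → IsRoot a c → ∀ s t : F,
    ⁅Xs a b s, Xs b c t⁆ = Xs a c (s * t)
  comm : ∀ a b c d, IsRoot a b → IsRoot c d → b ≠ c → a ≠ d → a ≠ ng c → a ≠ ng d → b ≠ ng c →
    b ≠ ng d → ∀ s t : F, Commute (Xs a b s) (Xs c d t)
  orthC : ∀ a b, IsRoot a b → ∀ s t : F, ⁅Xs a b s, Xs b (ng a) t⁆ = Xl a (2 * s * t)
  sl : ∀ a b, IsRoot a b → ∀ s t : F,
    ⁅Xs a b s, Xl b t⁆ = Xs a (ng b) (s * t) * Xl a (sgF F a * sgF F b * s ^ 2 * t)
  slcomm : ∀ a b c, IsRoot a b → c ≠ b → c ≠ ng a → ∀ s t : F, Commute (Xs a b s) (Xl c t)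
  ll : ∀ a c, c ≠ ng a → ∀ s t : F, Commute (Xl a s) (Xl c t)

/-- the model short root elements -/
def xs (a b : J n) (t : F) : Matrix (J n) (J n) F :=
  1 + t • (Matrix.single a b (1 : F) - (sgF F a * sgF F b) • Matrix.single (ng b) (ng a) (1 : F))

/-- the model long root elements -/
def xl (a : J n) (t : F) : Matrix (J n) (J n) F := 1 + t • Matrix.single a (ng a) (1 : F)

/-- the character of the signed index `a` on the torus parameter `d` -/
def chi (d : Fin n → Fˣ) (a : J n) : F :=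
  Sum.elim (fun i => ((d i : Fˣ) : F)) (fun i => (((d i)⁻¹ : Fˣ) : F)) a

@[simp] theorem chi_inl (d : Fin n → Fˣ) (i : Fin n) : chi d (Sum.inl i : J n) = ((d i : Fˣ) : F) := rfl
@[simp] theorem chi_inr (d : Fin n → Fˣ) (i : Fin n) :
    chi d (Sum.inr i : J n) = (((d i)⁻¹ : Fˣ) : F) := rfl

theorem chi_ne_zero (d : Fin n → Fˣ) (a : J n) : chi d a ≠ 0 := by
  cases a <;> simp

theorem chi_ng (d : Fin n → Fˣ) (a : J n) : chi d (ng a) = (chi d a)⁻¹ := by
  cases a <;> simp

theorem chi_mul (d d' : Fin n → Fˣ) (a : J n) : chi (d * d') a = chi d a * chi d' a := by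
  cases a <;> simp [mul_comm]

theorem chi_one (a : J n) : chi (1 : Fin n → Fˣ) a = (1 : F) := by
  cases a <;> simp

/-- the model torus elements: `diag (d, d⁻¹)` -/
def hm (d : Fin n → Fˣ) : Matrix (J n) (J n) F := Matrix.diagonal (chi d)

/-- the torus parameter with the entry `v` at `i` -/
def dOne (i : Fin n) (v : Fˣ) : Fin n → Fˣ := fun x => if x = i then v else 1

theorem chi_dOne_inl (i : Fin n) (v : Fˣ) (x : Fin n) :
    chi (dOne i v) (Sum.inl x : J n) = if x = i then ((v : Fˣ) : F) else 1 := by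
  unfold dOne
  simp only [chi_inl]
  split_ifs <;> simp

/-! ### the circle of a pair `i ≠ j` -/

/-- the root element of `ρ_k` in the `C_2` of the indices `i`, `j` (parameter negated for `k = 3, 7`) -/
def cX (Xs : J n → J n → F → M) (Xl : J n → F → M) (i j : Fin n) (k : ZMod 8) (t : F) : M :=
  match k.val with
  | 0 => Xs (Sum.inl i) (Sum.inl j) t
  | 1 => Xl (Sum.inl i) t
  | 2 => Xs (Sum.inl i) (Sum.inr j) t
  | 3 => Xl (Sum.inl j) (-t)
  | 4 => Xs (Sum.inl j) (Sum.inl i) t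
  | 5 => Xl (Sum.inr i) t
  | 6 => Xs (Sum.inr i) (Sum.inl j) t
  | _ => Xl (Sum.inr j) (-t)

/-- the coefficient of `e_i` in the coroot of `ρ_k` -/
def corI (k : ZMod 8) : ℤ :=
  match k.val with
  | 0 => 1 | 1 => 1 | 2 => 1 | 3 => 0 | 4 => -1 | 5 => -1 | 6 => -1 | _ => 0

/-- the coefficient of `e_j` in the coroot of `ρ_k` -/
def corJ (k : ZMod 8) : ℤ :=
  match k.val with
  | 0 => -1 | 1 => 0 | 2 => 1 | 3 => 1 | 4 => 1 | 5 => 0 | 6 => -1 | _ => -1

/-- the torus parameter of the coroot of `ρ_k` -/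
def corD (i j : Fin n) (k : ZMod 8) (v : Fˣ) : Fin n → Fˣ :=
  fun x => if x = i then v ^ corI k else if x = j then v ^ corJ k else 1

/-- the torus element `h_{ρ_k}(v)` of the circle of `i`, `j` (`1` if `v = 0`) -/
noncomputable def cH {G : Type*} [Group G] (H : (Fin n → Fˣ) →* G) (i j : Fin n) (k : ZMod 8)
    (v : F) : G :=
  open Classical in if h : v = 0 then 1 else H (corD i j k (Units.mk0 v h))

theorem cH_of_ne {G : Type*} [Group G] (H : (Fin n → Fˣ) →* G) (i j : Fin n) (k : ZMod 8)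
    {v : F} (h : v ≠ 0) : cH H i j k v = H (corD i j k (Units.mk0 v h)) := by
  unfold cH
  rw [dif_neg h]

/-- helper2's sign tables, cast to the field -/
def cE1 (F : Type*) [Field F] (k s : ZMod 8) : F := ((E1 k s : ℤ) : F)
def cE2 (F : Type*) [Field F] (k s : ZMod 8) : F := ((E2 k s : ℤ) : F)
def cE3 (F : Type*) [Field F] (k s : ZMod 8) : F := ((E3 k s : ℤ) : F)

/-- the relations of type `C_n` in CIRCLE form: `flip`, the relations of helper2's `Circ` for every pair `i ≠ j`
(these contain all relations between two roots whose supports lie in `{i, j}`), and the relations between roots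
with three or four indices in their supports (`mul`, `comm`, `slcomm`) -/
structure CRelC (Xs : J n → J n → F → M) (Xl : J n → F → M) : Prop where
  flip : ∀ a b, IsRoot a b → ∀ t : F, Xs (ng b) (ng a) t = Xs a b (-(sgF F a * sgF F b) * t)
  circ : ∀ i j : Fin n, i ≠ j → Circ (cE1 F) (cE2 F) (cE3 F) (cX Xs Xl i j)
  mul : ∀ a b c, IsRoot a b → IsRoot b c → IsRoot a c → ∀ s t : F,
    ⁅Xs a b s, Xs b c t⁆ = Xs a c (s * t)
  comm : ∀ a b c d, IsRoot a b → IsRoot c d → b ≠ c → a ≠ d → a ≠ ng c → a ≠ ng d → b ≠ ng c →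
    b ≠ ng d → ∀ s t : F, Commute (Xs a b s) (Xs c d t)
  slcomm : ∀ a b c, IsRoot a b → ab c ≠ ab a → ab c ≠ ab b → ∀ s t : F, Commute (Xs a b s) (Xl c t)

/-- root elements of type `C_n` with a torus -/
structure CnT (n : ℕ) (F : Type*) [Field F] (G : Type*) [Group G] where
  Xs : J n → J n → F → G
  Xl : J n → F → G
  H : (Fin n → Fˣ) →* G
  rel : CRelC Xs Xl
  conjs : ∀ d a b, IsRoot a b → ∀ t : F,
    H d * Xs a b t * (H d)⁻¹ = Xs a b (chi d a * (chi d b)⁻¹ * t)
  conjl : ∀ d a, ∀ t : F, H d * Xl a t * (H d)⁻¹ = Xl a (chi d a ^ 2 * t)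

/-- the family `Ys, Yl` lifts the family `Xs, Xl` along `ψ` -/
def IsLiftOf {G : Type*} [Group G] {E : Type*} [Group E] (ψ : E →* G)
    (Xs : J n → J n → F → G) (Xl : J n → F → G) (Ys : J n → J n → F → E) (Yl : J n → F → E) : Prop :=
  (∀ a b, IsRoot a b → ∀ t : F, ψ (Ys a b t) = Xs a b t) ∧ ∀ a, ∀ t : F, ψ (Yl a t) = Xl a t

/-- the set of root elements of a pair of families -/
def rootSet (Xs : J n → J n → F → M) (Xl : J n → F → M) : Set M :=
  {g | (∃ a b, ∃ t : F, IsRoot a b ∧ g = Xs a b t) ∨ ∃ a, ∃ t : F, g = Xl a t}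

end Cfsg.Agent.S2092P
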