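import Mathlib
import Cfsg.Agent.Helper10.S2092.Defs

set_option autoImplicit false
set_option linter.unusedSectionVars false
set_option linter.unusedVariables false

/-! S2092, the model: root elements and the torus of Mathlib's `Matrix.symplecticGroup (Fin n) F`
(`J n = Fin n ⊕ Fin n` is its index type). -/

namespace Cfsg.Agent.S2092P

open Matrix Cfsg.Agent.S3352P Cfsg.Agent.S2096P

variable {n : ℕ} {F : Type*} [Field F]

open Classical in
/-- the model short root elements in `Sp_{2n}(F)` (the matrix `xs a b t`, which is symplectic for a root `(a, b)`) -/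
noncomputable def gS (a b : J n) (t : F) : symplecticGroup (Fin n) F :=
  if h : xs a b t ∈ symplecticGroup (Fin n) F then ⟨xs a b t, h⟩ else 1

open Classical in
/-- the model long root elements in `Sp_{2n}(F)` -/
noncomputable def gL (a : J n) (t : F) : symplecticGroup (Fin n) F :=
  if h : xl a t ∈ symplecticGroup (Fin n) F then ⟨xl a t, h⟩ else 1

theorem hm_mem (d : Fin n → Fˣ) : hm d ∈ symplecticGroup (Fin n) F := by
  rw [SymplecticGroup.mem_iff]
  unfold hm
  rw [Matrix.diagonal_transpose]
  ext x y
  rw [Matrix.mul_diagonal, Matrix.diagonal_mul]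
  rcases x with i | i <;> rcases y with j | j <;>
    simp [Matrix.J, Matrix.fromBlocks, Matrix.one_apply, Matrix.neg_apply]
  · split_ifs with h
    · subst h
      simp
    · rfl
  · split_ifs with h
    · subst h
      simp
    · rfl

theorem hm_one : hm (1 : Fin n → Fˣ) = (1 : Matrix (J n) (J n) F) := by
  unfold hm
  have : chi (1 : Fin n → Fˣ) = fun _ : J n => (1 : F) := funext chi_one
  rw [this]
  exact Matrix.diagonal_one

theorem hm_mul (d d' : Fin n → Fˣ) : (hm (d * d') : Matrix (J n) (J n) F) = hm d * hm d' := by
  unfold hm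
  rw [Matrix.diagonal_mul_diagonal]
  congr 1
  exact funext (chi_mul d d')

/-- the model torus of `Sp_{2n}(F)` -/
def gH (n : ℕ) (F : Type*) [Field F] : (Fin n → Fˣ) →* symplecticGroup (Fin n) F where
  toFun d := ⟨hm d, hm_mem d⟩
  map_one' := Subtype.ext hm_one
  map_mul' d d' := Subtype.ext (hm_mul d d')

@[simp] theorem coe_gH (d : Fin n → Fˣ) :
    ((gH n F d : symplecticGroup (Fin n) F) : Matrix (J n) (J n) F) = hm d := rfl

/-- the inclusion of `Sp_{2n}(F)` into the matrices, as a homomorphism of monoids -/
def spCoe (n : ℕ) (F : Type*) [Field F] : symplecticGroup (Fin n) F →* Matrix (J n) (J n) F :=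
  (symplecticGroup (Fin n) F).subtype

@[simp] theorem spCoe_apply (g : symplecticGroup (Fin n) F) :
    spCoe n F g = (g : Matrix (J n) (J n) F) := rfl

theorem spCoe_injective : Function.Injective (spCoe n F) := Subtype.val_injective

end Cfsg.Agent.S2092P
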