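import Mathlib
import Cfsg.Agent.Helper10.S2092.DefsM
import Cfsg.Agent.Helper2.SpCenter

set_option autoImplicit false
set_option linter.unusedSectionVars false
set_option linter.unusedVariables false

/-! S2092, piece CENTERISO: the centre of `Sp_{2n}(F)` is cyclic of order `gcd(2, q - 1)`. -/

namespace Cfsg.Agent.S2092P

open Matrix

variable {n : ℕ} {F : Type*} [Field F]

theorem exists_center_iso [Fintype F] (hn : 1 ≤ n) :
    Nonempty (Multiplicative (ZMod (Nat.gcd 2 (Fintype.card F - 1))) ≃*
      Subgroup.center (symplecticGroup (Fin n) F)) := by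
  classical
  have : Nonempty (Fin n) := ⟨⟨0, by omega⟩⟩
  have hcard : Nat.card (Subgroup.center (symplecticGroup (Fin n) F)) =
      Nat.gcd 2 (Fintype.card F - 1) := by
    rw [Cfsg.Agent.Helper2.Sp.card_center, Nat.card_eq_fintype_card, Fintype.card_units, Nat.gcd_comm]
  have hle : Nat.gcd 2 (Fintype.card F - 1) ∣ 2 := Nat.gcd_dvd_left _ _
  have hcyc : IsCyclic (Subgroup.center (symplecticGroup (Fin n) F)) := by
    have h12 : Nat.gcd 2 (Fintype.card F - 1) = 1 ∨ Nat.gcd 2 (Fintype.card F - 1) = 2 :=
      (Nat.dvd_prime Nat.prime_two).mp hle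
    rcases h12 with h1 | h2
    · have : Subsingleton (Subgroup.center (symplecticGroup (Fin n) F)) := by
        rw [← Finite.card_le_one_iff_subsingleton, hcard, h1]
      exact isCyclic_of_subsingleton
    · have : Fact (Nat.Prime 2) := ⟨Nat.prime_two⟩
      exact isCyclic_of_prime_card (p := 2) (by rw [hcard, h2])
  rw [← hcard]
  exact ⟨zmodCyclicMulEquiv hcyc⟩

end Cfsg.Agent.S2092P
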