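import Mathlib
import Cfsg.Agent.Helper10.S2092.Defs
import Cfsg.Agent.Helper2.S2094.DefsR
import Cfsg.Agent.Helper2.S3352.DefsU
import Cfsg.Agent.Helper10.RGD.Ker

set_option autoImplicit false
set_option linter.unusedSectionVars false
set_option linter.unusedVariables false

/-! S2092, part P (a group generated by root elements with the relations of type `C_n` which maps to the model maps
injectively): definitions.

The names of the roots, their combinatorics and the shape of the root group datum are those of S2094 (`RB n`,
`RootB n`, `RB.lg a b` = the root `ε_a - ε_b` (SHORT for `C_n`), `RB.sh a` = the root `2ε_a` (LONG for `C_n`), `reflB`, …):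
the Weyl groups of `B_n` and `C_n` and their actions on the names are the same. S2094's `wY Z a t = Z a t * Z (ng a) t⁻¹ * Z a t`
is the standard Weyl element for the family `zl Yl a t := Yl a (sg(a) t)` (then `(Z a t, Z (ng a) (-t))` is a standard
`SL₂`-pair). The torus of the datum is generated by the torus elements of the SIMPLE roots only. -/

namespace Cfsg.Agent.S2092P

open Matrix Cfsg.Agent.S3352P Cfsg.Agent.S2096P Cfsg.Agent.S2094P Cfsg.Agent.RGD

variable {n : ℕ} {F : Type*} [Field F] {M : Type*} [Group M]

/-- the long root elements with the sign normalization of S2094's `wY` -/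
def zl (Yl : J n → F → M) (a : J n) (t : F) : M := Yl a (sgF F a * t)

/-- the torus: generated by the torus elements of the simple roots -/
def HhS (Ys : J n → J n → F → M) (Yl : J n → F → M) : Subgroup M :=
  Subgroup.closure ({g | ∃ a b, ∃ t : F, (RB.lg a b : RB n).Simple ∧ t ≠ 0 ∧ g = tX Ys a b t} ∪
    {g | ∃ a, ∃ t : F, (RB.sh a : RB n).Simple ∧ t ≠ 0 ∧ g = tY (zl Yl) a t})

/-- the root group datum of a group with root elements of type `C_n` -/
def datumC (Ys : J n → J n → F → M) (Yl : J n → F → M) : Datum M (RootB n) where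
  U r := r.1.U Ys (zl Yl)
  neg r := ⟨r.1.neg, RB.valid_neg r.2⟩
  alt r := ⟨r.1.alt, RB.valid_alt r.2⟩
  Pos r := r.1.Pos
  Simple r := r.1.Simple
  refl := reflB
  nS r := r.1.nS Ys (zl Yl)
  T := HhS Ys Yl

/-- the root elements of a name -/
def xr (Ys : J n → J n → F → M) (Yl : J n → F → M) : RB n → F → M
  | RB.lg a b => Ys a b
  | RB.sh a => Yl a

/-- the model root elements of a name -/
def xrm : RB n → F → Matrix (J n) (J n) F
  | RB.lg a b => xs a b
  | RB.sh a => xl a

/-- the rank one group of a root -/
def GP (D : Datum M (RootB n)) (s : RootB n) : Subgroup M :=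
  Subgroup.closure ((D.U s : Set M) ∪ (D.U (D.neg s) : Set M))

/-- the hypotheses of part P: the relations and the representation -/
structure PHyp (Ys : J n → J n → F → M) (Yl : J n → F → M) (π : M →* Matrix (J n) (J n) F) : Prop where
  rel : CRel Ys Yl
  pis : ∀ a b, IsRoot a b → ∀ t : F, π (Ys a b t) = xs a b t
  pil : ∀ a, ∀ t : F, π (Yl a t) = xl a t

/-! ### the relabelling `a ↦ -a` (exchanges the positive and the negative roots) -/

/-- the relabelled short root elements -/
def ngs (Ys : J n → J n → F → M) (a b : J n) (t : F) : M := Ys (ng a) (ng b) t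

/-- the relabelled long root elements -/
def ngl (Yl : J n → F → M) (a : J n) (t : F) : M := Yl (ng a) t

/-- conjugation of the matrices by the permutation `ng` of the indices -/
def ngmHom (n : ℕ) (F : Type*) [Field F] : Matrix (J n) (J n) F →* Matrix (J n) (J n) F where
  toFun A := A.submatrix ng ng
  map_one' := by
    ext x y
    simp [Matrix.one_apply, ng_injective.eq_iff]
  map_mul' A B := by
    ext x y
    simp only [Matrix.submatrix_apply, Matrix.mul_apply]
    exact (Fintype.sum_equiv ⟨ng, ng, ng_ng, ng_ng⟩ _ _ (fun z => rfl)).symm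

theorem ngmHom_apply (A : Matrix (J n) (J n) F) (x y : J n) : ngmHom n F A x y = A (ng x) (ng y) := rfl

/-! ### the positive unipotent group -/

/-- the subgroup generated by the root elements of the roots `e_i + e_j` and `2e_i` -/
def UPC (Ys : J n → J n → F → M) (Yl : J n → F → M) : Subgroup M :=
  Subgroup.closure ({g | ∃ (i j : Fin n) (t : F), i ≠ j ∧ g = Ys (Sum.inl i) (Sum.inr j) t} ∪
    {g | ∃ (i : Fin n) (t : F), g = Yl (Sum.inl i) t})

/-! ### the model Weyl elements -/

/-- the matrix of `wX Ys a b t` -/
def mws (a b : J n) (t : F) : Matrix (J n) (J n) F :=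
  1 - Matrix.single a a (1 : F) - Matrix.single b b (1 : F) - Matrix.single (ng a) (ng a) (1 : F) -
    Matrix.single (ng b) (ng b) (1 : F) + t • Matrix.single a b (1 : F) - t⁻¹ • Matrix.single b a (1 : F) -
    (sgF F a * sgF F b * t) • Matrix.single (ng b) (ng a) (1 : F) +
    (sgF F a * sgF F b * t⁻¹) • Matrix.single (ng a) (ng b) (1 : F)

/-- the matrix of the Weyl element `Yl a t * Yl (ng a) (-t⁻¹) * Yl a t` -/
def mwl (a : J n) (t : F) : Matrix (J n) (J n) F :=
  1 - Matrix.single a a (1 : F) - Matrix.single (ng a) (ng a) (1 : F) + t • Matrix.single a (ng a) (1 : F) -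
    t⁻¹ • Matrix.single (ng a) a (1 : F)

/-- the matrix of a Weyl element of the datum -/
def mW : RB n → F → Matrix (J n) (J n) F
  | RB.lg a b => mws a b
  | RB.sh a => fun t => mwl a (sgF F a * t)

/-- `g` acts on the root elements through the permutation `σ` of the names, with nonzero scalars -/
def ActsBy (Ys : J n → J n → F → M) (Yl : J n → F → M) (g : M) (σ : RB n → RB n) : Prop :=
  ∀ r : RB n, r.Valid → ∃ η : F, η ≠ 0 ∧ ∀ u : F, g * xr Ys Yl r u * g⁻¹ = xr Ys Yl (σ r) (η * u)

end Cfsg.Agent.S2092P
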