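import Mathlib
import Cfsg.Agent.Helper10.S2092.Defs

set_option autoImplicit false
set_option linter.unusedSectionVars false
set_option linter.unusedVariables false

/-! S2092, part T (central extensions split over the root elements): definitions.

`sec ψ hψ g x c t`: the canonical lift of `x t` to a central extension `ψ : E → G`, for an additive family `x : F → G`
scaled by `c ≠ 1` under conjugation by `g` (`g x(t) g⁻¹ = x(c t)`, so `x t = ⁅g, x (t / (c - 1))⁆`).
`ELift S ψ Ys Yl`: torus-equivariant additive lifts of the root elements of `S : CnT n F G`.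
`cYs`, `cYl`: the canonical lifts defined by the torus element `S.H (dOne (ab a) v)`. -/

namespace Cfsg.Agent.S2092P

open scoped commutatorElement
open Cfsg.Agent.S3352P Cfsg.Agent.S2096P Cfsg.Agent.S2400P
open Cfsg.Agent.S2086P (CL cl)

variable {n : ℕ} {F : Type*} [Field F] {G : Type*} [Group G] {E : Type*} [Group E]

/-- the canonical lift of `x t`, where `g x(t) g⁻¹ = x (c t)` -/
noncomputable def sec (ψ : E →* G) (hψ : Function.Surjective ψ) (g : G) (x : F → G) (c : F) (t : F) : E :=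
  cl ψ hψ g (x (t / (c - 1)))

/-- torus-equivariant additive lifts of the root elements of `S` -/
structure ELift (S : CnT n F G) (ψ : E →* G) (Ys : J n → J n → F → E) (Yl : J n → F → E) : Prop where
  maps : ∀ a b, IsRoot a b → ∀ t : F, ψ (Ys a b t) = S.Xs a b t
  mapl : ∀ a, ∀ t : F, ψ (Yl a t) = S.Xl a t
  adds : ∀ a b, IsRoot a b → ∀ s t : F, Ys a b (s + t) = Ys a b s * Ys a b t
  addl : ∀ a, ∀ s t : F, Yl a (s + t) = Yl a s * Yl a t
  conjs : ∀ (e : E) (d : Fin n → Fˣ), ψ e = S.H d → ∀ a b, IsRoot a b → ∀ t : F,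
    e * Ys a b t * e⁻¹ = Ys a b (chi d a * (chi d b)⁻¹ * t)
  conjl : ∀ (e : E) (d : Fin n → Fˣ), ψ e = S.H d → ∀ a, ∀ t : F,
    e * Yl a t * e⁻¹ = Yl a (chi d a ^ 2 * t)
  flip : ∀ a b, IsRoot a b → ∀ t : F, Ys (ng b) (ng a) t = Ys a b (-(sgF F a * sgF F b) * t)

/-- torus-equivariant additive lifts of the short root elements of `S` -/
structure ELiftS (S : CnT n F G) (ψ : E →* G) (Ys : J n → J n → F → E) : Prop where
  maps : ∀ a b, IsRoot a b → ∀ t : F, ψ (Ys a b t) = S.Xs a b t
  adds : ∀ a b, IsRoot a b → ∀ s t : F, Ys a b (s + t) = Ys a b s * Ys a b t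
  conjs : ∀ (e : E) (d : Fin n → Fˣ), ψ e = S.H d → ∀ a b, IsRoot a b → ∀ t : F,
    e * Ys a b t * e⁻¹ = Ys a b (chi d a * (chi d b)⁻¹ * t)
  flip : ∀ a b, IsRoot a b → ∀ t : F, Ys (ng b) (ng a) t = Ys a b (-(sgF F a * sgF F b) * t)

theorem ELift.toS {S : CnT n F G} {ψ : E →* G} {Ys : J n → J n → F → E} {Yl : J n → F → E}
    (h : ELift S ψ Ys Yl) : ELiftS S ψ Ys :=
  ⟨h.maps, h.adds, h.conjs, h.flip⟩

/-- the canonical lifts of the short root elements -/
noncomputable def cYs (S : CnT n F G) (ψ : E →* G) (hψ : Function.Surjective ψ) (v : Fˣ)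
    (a b : J n) (t : F) : E :=
  sec ψ hψ (S.H (dOne (ab a) v)) (S.Xs a b) (chi (dOne (ab a) v) a) t

/-- the canonical lifts of the long root elements (for `v ^ 2 ≠ 1`) -/
noncomputable def cYl (S : CnT n F G) (ψ : E →* G) (hψ : Function.Surjective ψ) (v : Fˣ)
    (a : J n) (t : F) : E :=
  sec ψ hψ (S.H (dOne (ab a) v)) (S.Xl a) (chi (dOne (ab a) v) a ^ 2) t

/-- a chosen partner index of `a` (an index `inl j` with `j ≠ ab a`) -/
theorem exists_ne_fin (hn : 2 ≤ n) (i : Fin n) : ∃ j : Fin n, j ≠ i :=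
  Fintype.exists_ne_of_one_lt_card (by rw [Fintype.card_fin]; omega) i

noncomputable def pt (hn : 2 ≤ n) (a : J n) : J n :=
  Sum.inl (Classical.choose (exists_ne_fin hn (ab a)))

theorem ab_pt_ne (hn : 2 ≤ n) (a : J n) : ab (pt hn a) ≠ ab a :=
  Classical.choose_spec (exists_ne_fin hn (ab a))

/-- the lifts of the long root elements as commutators of lifts of short root elements
(for the characteristic `≠ 2`; used for `|F| = 3`) -/
noncomputable def qYl (hn : 2 ≤ n) (Ys : J n → J n → F → E) (a : J n) (t : F) : E :=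
  ⁅Ys a (pt hn a) (t / 2), Ys (pt hn a) (ng a) 1⁆

end Cfsg.Agent.S2092P
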