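import Mathlib
import Cfsg.Agent.Helper10.S2092.DefsT
import Cfsg.Agent.Helper2.S2094.DefsA

set_option autoImplicit false
set_option linter.unusedSectionVars false
set_option linter.unusedVariables false

/-! S2092, part T for `|F| = 2`, `n ≥ 4` (central extensions split over the root elements): definitions.

No torus: the commutator trick `CL_of_comm` (S2086) with a fourth index gives the commutation of the lifts of all
commuting pairs of root elements; the short root elements satisfy the relations of type `D_n` in characteristic 2, and
part A of S2096 (with `DCL` as a hypothesis instead of `Big n F`) gives canonical short lifts `Y Xs ψ hψ hn`;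
the long lifts are `bYl`. -/

namespace Cfsg.Agent.S2092P

open scoped commutatorElement
open Cfsg.Agent.S3352P Cfsg.Agent.S2096P
open Cfsg.Agent.S2086P (CL cl)

variable {n : ℕ} {F : Type*} [Field F] {G : Type*} [Group G] {E : Type*} [Group E]

/-- all lifts of the commuting pairs of root elements of type `D_n` commute -/
def DCL (ψ : E →* G) (X : J n → J n → F → G) : Prop :=
  ∀ a b c d, IsRoot a b → IsRoot c d → b ≠ c → a ≠ d → a ≠ ng c → a ≠ ng d → b ≠ ng c → b ≠ ng d →
    ∀ s t : F, CL ψ (X a b s) (X c d t)

/-- the lifts of the long root elements in characteristic 2 (used for `|F| = 2`):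
`⁅Xs a b 1, Xl b t⁆ = Xs a (ng b) t * Xl a t` with the partner `b = pt hn a` -/
noncomputable def bYl (hn : 2 ≤ n) (Xs : J n → J n → F → G) (Xl : J n → F → G) (ψ : E →* G)
    (hψ : Function.Surjective ψ) (Ys : J n → J n → F → E) (a : J n) (t : F) : E :=
  (Ys a (ng (pt hn a)) t)⁻¹ * cl ψ hψ (Xs a (pt hn a) 1) (Xl (pt hn a) t)

end Cfsg.Agent.S2092P
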