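import Mathlib
import Cfsg.Agent.Helper10.S2092.DefsP
import Cfsg.Agent.Helper23.S2092UNITRI
import Cfsg.Agent.Helper29.S2092MODELW
import Cfsg.Agent.Helper18.S2092INJPOS
import Cfsg.Agent.Helper3.S2092TORINJ

set_option autoImplicit false
set_option linter.unusedSectionVars false
set_option linter.unusedVariables false

/-! S2092, piece SPLIT (hedge by helper10, fresh name `split_c'`). -/

namespace Cfsg.Agent.S2092P

open Matrix Cfsg.Agent.S3352P Cfsg.Agent.S2096P Cfsg.Agent.S2094P Cfsg.Agent.RGD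

variable {n : ℕ} {F : Type*} [Field F] {M : Type*} [Group M] {Ys : J n → J n → F → M}
  {Yl : J n → F → M} {π : M →* Matrix (J n) (J n) F}

theorem split_c' [Fintype F] (hn : 2 ≤ n) (h : PHyp Ys Yl π) {u t : M} (hu : u ∈ (datumC Ys Yl).Uh)
    (ht : t ∈ (datumC Ys Yl).T) (h1 : π (u * t) = 1) : u = 1 ∧ t = 1 := by
  obtain ⟨hdiag, hlow⟩ := unitri_of_mem_Uh h hu
  obtain ⟨d, hd0, hd⟩ := diag_of_mem_T h ht
  rw [map_mul, hd] at h1
  -- entries of `π u * diagonal d`
  have hent : ∀ x y, π u x y * d y = (1 : Matrix (J n) (J n) F) x y := by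
    intro x y
    rw [← h1, Matrix.mul_diagonal]
  have hd1 : ∀ x, d x = 1 := by
    intro x
    have := hent x x
    rw [hdiag x, one_mul, Matrix.one_apply_eq] at this
    exact this
  have hu1 : π u = 1 := by
    ext x y
    have := hent x y
    rw [hd1 y, mul_one] at this
    exact this
  have ht1 : π t = 1 := by
    rw [hd]
    have : d = fun _ => (1 : F) := funext hd1
    rw [this]
    exact Matrix.diagonal_one
  exact ⟨eq_one_of_mem_Uh_c hn h hu hu1, eq_one_of_mem_T hn h ht ht1⟩

end Cfsg.Agent.S2092P
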