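import Mathlib
import Cfsg.Agent.Helper10.S2092.DefsP
import Cfsg.Agent.Helper11.S2092RGDC
import Cfsg.Agent.Helper11.S2092TNORM
import Cfsg.Agent.Helper19.S2092POSB
import Cfsg.Agent.Helper10.S2092.SplitH

set_option autoImplicit false
set_option linter.unusedSectionVars false
set_option linter.unusedVariables false

/-! S2092, part P: assembly. -/

namespace Cfsg.Agent.S2092P

open Matrix Cfsg.Agent.S3352P Cfsg.Agent.S2096P Cfsg.Agent.S2094P Cfsg.Agent.RGD

variable {n : ℕ} {F : Type*} [Field F] {M : Type*} [Group M] {Ys : J n → J n → F → M}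
  {Yl : J n → F → M} {π : M →* Matrix (J n) (J n) F}

/-- part P: a group generated by root elements with the relations of type `C_n` which maps to the model maps
injectively -/
theorem eq_one_of_pi_eq_one [Fintype F] (hn : 2 ≤ n) (h : PHyp Ys Yl π)
    (hgen : Subgroup.closure (rootSet Ys Yl) = ⊤) {x : M} (hx : π x = 1) : x = 1 := by
  have hD := isRGD_datumC hn h hgen
  have hN := isRGDN_datumC hn h
  apply eq_one_of_map_eq_one hD hN π _ _ hx
  · intro m hm b hb hmb r r' hr hconj
    exact pos_of_map_eq h hb hmb hr hconj
  · intro u hu t ht h1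
    exact split_c' hn h hu ht h1

end Cfsg.Agent.S2092P
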