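import Mathlib
import Cfsg.Agent.Helper10.S2092.DefsQ
import Cfsg.Agent.Helper16.S2096YMAP
import Cfsg.Agent.Helper18.S2092QDREL
import Cfsg.Agent.Helper7.S2092QCL45
import Cfsg.Agent.Helper19.S2092QCLS
import Cfsg.Agent.Helper18.S2092QCL6
import Cfsg.Agent.Helper22.S2092QYPORT
import Cfsg.Agent.Helper7.S2092QLINV
import Cfsg.Agent.Helper7.S2092QSL

set_option autoImplicit false
set_option linter.unusedSectionVars false
set_option linter.unusedVariables false

/-! S2092, part T for `|F| = 2`, `n ≥ 4`: assembly. -/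

namespace Cfsg.Agent.S2092P

open scoped commutatorElement
open Cfsg.Agent.S3352P Cfsg.Agent.S2096P Cfsg.Agent.S3351P
open Cfsg.Agent.S2086P (CL cl)

variable {n : ℕ} {F : Type*} [Field F] {G : Type*} [Group G] {E : Type*} [Group E]
  {Xs : J n → J n → F → G} {Xl : J n → F → G}

theorem two_eq_zero_of_card [Fintype F] (hF : Fintype.card F = 2) : (2 : F) = 0 := by
  have h := Nat.cast_card_eq_zero F
  rw [hF] at h
  exact_mod_cast h

/-- part T for `|F| = 2`, `n ≥ 4` -/
theorem exists_lift_of_two [Fintype F] (hF : Fintype.card F = 2) (hn4 : 4 ≤ n) (h : CRel Xs Xl)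
    (ψ : E →* G) (hψ : Function.Surjective ψ) (hc : ψ.ker ≤ Subgroup.center E) :
    ∃ (Ys : J n → J n → F → E) (Yl : J n → F → E), CRel Ys Yl ∧ IsLiftOf ψ Xs Xl Ys Yl := by
  have h2 : (2 : F) = 0 := two_eq_zero_of_card hF
  have hneg : ∀ t : F, -t = t := by
    intro t
    have : t + t = 0 := by rw [← two_mul, h2, zero_mul]
    exact neg_eq_of_add_eq_zero_left this
  have hn3 : 3 ≤ n := by omega
  have hn2 : 2 ≤ n := by omega
  have hXD := dRel_of_cRel h2 h
  have hC := dcl_of_cRel hn4 h ψ hψ hc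
  have hY := dRel_Y_of_dcl hn4 hXD ψ hψ hc hC hn3
  have hmap : ∀ a b, IsRoot a b → ∀ t : F, ψ (Y Xs ψ hψ hn3 a b t) = Xs a b t :=
    fun a b hab t => map_Y hXD ψ hψ hn3 hab t
  have hmapl := map_bYl h2 hn2 h ψ hψ hmap
  have hadd := bYl_add hF hn4 hn2 h ψ hψ hc hY hmap
  have hzero : ∀ a, bYl hn2 Xs Xl ψ hψ (Y Xs ψ hψ hn3) a 0 = 1 := by
    intro a
    have := hadd a 0 0
    rw [add_zero] at this
    exact (mul_eq_left.mp this.symm)
  refine ⟨Y Xs ψ hψ hn3, bYl hn2 Xs Xl ψ hψ (Y Xs ψ hψ hn3), ⟨?_, ?_, ?_, ?_, ?_, ?_, ?_, ?_, ?_⟩,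
    hmap, hmapl⟩
  · -- flip
    intro a b hab t
    rw [hY.flip a b hab t, hneg, hneg]
    have : sgF F a * sgF F b * t = t := by
      rcases a with i | i <;> rcases b with j | j <;> simp [hneg]
    rw [this]
  · exact hY.add
  · exact hadd
  · intro a b c hab hbc hac s t
    rw [commutatorElement_def, ← cm_def]
    exact hY.mul a b c hab hbc hac s t
  · intro a b c d hab hcd h1 h2' h3 h4 h5 h6 s t
    exact hY.comm a b c d hab hcd h1 h2' h3 h4 h5 h6 s t
  · -- orthC
    intro a b hab s t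
    rw [h2, zero_mul, zero_mul, hzero]
    have hab' : IsRoot a (ng b) := ⟨fun e => hab.2 e, fun e => hab.1 (by rw [e, ng_ng])⟩
    have hf := hY.flip a (ng b) hab' t
    rw [ng_ng] at hf
    rw [hf, commutatorElement_eq_one_iff_mul_comm]
    exact hY.orth a b hab s (-t)
  · intro a b hab s t
    exact sl_bYl hF hn4 hn2 h ψ hψ hc hY hmap hab s t
  · intro a b c hab h1 h2' s t
    exact cl_short_long hn4 h ψ hψ hc hab h1 h2' s t _ _ (hmap a b hab s) (hmapl c t)
  · intro a c hca s t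
    by_cases hac : ab c = ab a
    · rcases eq_or_eq_ng_of_ab_eq hac with e | e
      · subst e
        show _ * _ = _ * _
        rw [← hadd, ← hadd, add_comm]
      · exact absurd e hca
    · exact cl_long_long hn4 h ψ hψ hc hac s t _ _ (hmapl a s) (hmapl c t)

end Cfsg.Agent.S2092P
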