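import Mathlib
import Cfsg.Agent.Helper10.S2092.DefsT
import Cfsg.Agent.Helper2.S2400.MainB2
import Cfsg.Agent.Helper24.S2092MULC
import Cfsg.Agent.Helper19.S2092CLCROSS
import Cfsg.Agent.Helper19.S2092ELIFTS
import Cfsg.Agent.Helper26.S2092ELIFT4
import Cfsg.Agent.Helper26.S2092CIRC4
import Cfsg.Agent.Helper16.S2092ELIFT3
import Cfsg.Agent.Helper16.S2092CIRC3
import Cfsg.Agent.Helper20.S2092ORTH3

set_option autoImplicit false
set_option linter.unusedSectionVars false
set_option linter.unusedVariables false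

/-! S2092, part T: assembly. -/

namespace Cfsg.Agent.S2092P

open scoped commutatorElement
open Cfsg.Agent.S3352P Cfsg.Agent.S2096P Cfsg.Agent.S2400P
open Cfsg.Agent.S2086P (CL cl)

variable {n : ℕ} {F : Type*} [Field F] {G : Type*} [Group G] {E : Type*} [Group E]

namespace MAINT

theorem cRelC_of_eLift [Fintype F] (hF : 3 ≤ Fintype.card F) (S : CnT n F G) (ψ : E →* G)
    (hψ : Function.Surjective ψ) (hc : ψ.ker ≤ Subgroup.center E) {Ys : J n → J n → F → E}
    {Yl : J n → F → E} (h : ELift S ψ Ys Yl)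
    (hcirc : ∀ i j : Fin n, i ≠ j → Circ (cE1 F) (cE2 F) (cE3 F) (cX Ys Yl i j)) :
    CRelC Ys Yl ∧ IsLiftOf ψ S.Xs S.Xl Ys Yl := by
  refine ⟨⟨h.flip, hcirc, ?_, ?_, ?_⟩, h.maps, h.mapl⟩
  · intro a b c hab hbc hac s t
    exact mul_of_eLiftS hF S ψ hψ hc h.toS a b c hab hbc hac s t
  · intro a b c d hab hcd h1 h2 h3 h4 h5 h6 s t
    exact cl_comm_s hF S ψ hψ hc a b c d hab hcd h1 h2 h3 h4 h5 h6 s t _ _ (h.maps a b hab s)
      (h.maps c d hcd t)
  · intro a b c hab h1 h2 s t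
    exact cl_slcomm hF S ψ hψ hc a b c hab h1 h2 s t _ _ (h.maps a b hab s) (h.mapl c t)

end MAINT

/-- part T for `|F| ≥ 3`: every central extension splits over the root elements, compatibly with the relations -/
theorem exists_lift_of_three_le [Fintype F] (hF : 3 ≤ Fintype.card F) (hn : 2 ≤ n) (S : CnT n F G)
    (ψ : E →* G) (hψ : Function.Surjective ψ) (hc : ψ.ker ≤ Subgroup.center E) :
    ∃ (Ys : J n → J n → F → E) (Yl : J n → F → E), CRelC Ys Yl ∧ IsLiftOf ψ S.Xs S.Xl Ys Yl := by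
  classical
  rcases Nat.lt_or_ge 3 (Fintype.card F) with h4 | h3
  · obtain ⟨v, hv0, hv2⟩ := exists_sq_ne_one (K := F) h4
    have h := eLift_canon hF hn S ψ hψ hc (Units.mk0 v hv0) (by simpa using hv2)
    exact ⟨_, _, MAINT.cRelC_of_eLift hF S ψ hψ hc h
      (fun i j hij => circ_of_eLift_four h4 S ψ hψ hc h i j hij)⟩
  · have h3' : Fintype.card F = 3 := le_antisymm h3 hF
    have h2 : (2 : F) ≠ 0 := two_ne_zero_of_card_three h3'
    have hv0 : (-1 : F) ≠ 0 := neg_ne_zero.2 one_ne_zero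
    have hv1 : (-1 : F) ≠ 1 := by
      intro h
      apply h2
      have : (2 : F) = 1 - (-1) := by ring
      rw [this, h]; ring
    have hS := eLiftS_canon hF S ψ hψ hc (Units.mk0 (-1) hv0) (by simpa using hv1)
    have h := eLift_of_three h3' hn S ψ hψ hc hS
    exact ⟨_, _, MAINT.cRelC_of_eLift hF S ψ hψ hc h
      (fun i j hij => circ_of_eLift_three h3' S ψ hψ hc h
        (fun a b hab s t => orth_of_eLiftS h3' hn S ψ hψ hc hS a b hab s t) i j hij)⟩

end Cfsg.Agent.S2092P
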