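import Mathlib
import Cfsg.Agent.Helper10.S2092.MainT
import Cfsg.Agent.Helper10.S2092.MainP
import Cfsg.Agent.Helper10.S2092.MainQ
import Cfsg.Agent.Helper10.S2092.CenterIso
import Cfsg.Agent.Helper11.S2092MDRELC
import Cfsg.Agent.Helper11.S2092GENSP
import Cfsg.Agent.Helper8.S2092C2CIRC
import Cfsg.Agent.Helper22.S2092CIRC2REL
import Cfsg.Agent.Helper4.S2092RESTR
import Cfsg.Agent.Helper4.S2092STEM
import Cfsg.Agent.Helper11.PSL32Mult
import Cfsg.Agent.Helper2.SpPerfect
import Cfsg.Agent.Helper2.SpCenter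

set_option autoImplicit false
set_option linter.unusedSectionVars false
set_option linter.unusedVariables false

/-! S2092: final assembly. -/

namespace Cfsg.Agent.S2092P

open scoped commutatorElement
open Matrix Cfsg.Agent.S3352P Cfsg.Agent.S2096P

universe u

variable {n : ℕ} {F : Type u} [Field F]

/-- the model as a `CnT` -/
noncomputable def modelCnT (hn : 2 ≤ n) : CnT n F (symplecticGroup (Fin n) F) where
  Xs := gS
  Xl := gL
  H := gH n F
  rel := cRelC_of_cRel cRel_gS
  conjs := fun d a b hab t => gH_conj_gS d hab t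
  conjl := fun d a t => gH_conj_gL d a t

/-- lifts of the root elements to a central extension of `Sp_{2n}(F)` -/
theorem exists_lift_sp [Fintype F] (hn : 2 ≤ n) (hq : 3 ≤ Fintype.card F ∨ 4 ≤ n) {E : Type*} [Group E]
    (ψ : E →* symplecticGroup (Fin n) F) (hψ : Function.Surjective ψ)
    (hc : ψ.ker ≤ Subgroup.center E) :
    ∃ (Ys : J n → J n → F → E) (Yl : J n → F → E), CRel Ys Yl ∧
      IsLiftOf ψ (gS (n := n) (F := F)) gL Ys Yl := by
  by_cases h3 : 3 ≤ Fintype.card F
  · obtain ⟨Ys, Yl, hrel, hlift⟩ := exists_lift_of_three_le h3 hn (modelCnT hn) ψ hψ hc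
    exact ⟨Ys, Yl, cRel_of_cRelC hn hrel, hlift⟩
  · have hn4 : 4 ≤ n := by
      rcases hq with h | h
      · exact absurd h h3
      · exact h
    have h2 : Fintype.card F = 2 := by
      have := Fintype.one_lt_card (α := F)
      omega
    exact exists_lift_of_two h2 hn4 cRel_gS ψ hψ hc

/-- every stem extension of `Sp_{2n}(F)` is trivial -/
theorem ker_eq_bot_sp [Fintype F] (hn : 2 ≤ n) (hq : 3 ≤ Fintype.card F ∨ 4 ≤ n) (P : Type*) [Group P]
    (ρ : P →* symplecticGroup (Fin n) F) (hρ : Cfsg.IsStemExtension ρ) : ρ.ker = ⊥ := by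
  classical
  obtain ⟨Ys, Yl, hrel, hs, hl⟩ := exists_lift_sp hn hq ρ hρ.1 hρ.2.1
  apply ker_eq_bot_of_gen ρ hρ (rootSet Ys Yl)
  · -- the images generate
    have himg : ρ '' rootSet Ys Yl = rootSet (gS (n := n) (F := F)) gL := by
      ext g
      constructor
      · rintro ⟨x, hx, rfl⟩
        rcases hx with ⟨a, b, t, hab, rfl⟩ | ⟨a, t, rfl⟩
        · exact Or.inl ⟨a, b, t, hab, hs a b hab t⟩
        · exact Or.inr ⟨a, t, hl a t⟩
      · rintro (⟨a, b, t, hab, rfl⟩ | ⟨a, t, rfl⟩)
        · exact ⟨Ys a b t, Or.inl ⟨a, b, t, hab, rfl⟩, hs a b hab t⟩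
        · exact ⟨Yl a t, Or.inr ⟨a, t, rfl⟩, hl a t⟩
    rw [himg]
    exact closure_gS_eq_top (by omega)
  · -- injectivity on the subgroup generated by the lifts
    set M : Subgroup P := Subgroup.closure (rootSet Ys Yl) with hM
    have hsm : ∀ a b, IsRoot a b → ∀ t : F, Ys a b t ∈ M := fun a b hab t =>
      Subgroup.subset_closure (Or.inl ⟨a, b, t, hab, rfl⟩)
    have hlm : ∀ a, ∀ t : F, Yl a t ∈ M := fun a t => Subgroup.subset_closure (Or.inr ⟨a, t, rfl⟩)
    let Ys' : J n → J n → F → M := fun a b t => if h : IsRoot a b then ⟨Ys a b t, hsm a b h t⟩ else 1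
    let Yl' : J n → F → M := fun a t => ⟨Yl a t, hlm a t⟩
    have hs' : ∀ a b, IsRoot a b → ∀ t : F, M.subtype (Ys' a b t) = Ys a b t := by
      intro a b hab t
      simp only [Ys', dif_pos hab]
      rfl
    have hl' : ∀ a, ∀ t : F, M.subtype (Yl' a t) = Yl a t := fun a t => rfl
    have hrel' : CRel Ys' Yl' := cRel_of_injective M.subtype M.subtype_injective hs' hl' hrel
    let π : M →* Matrix (J n) (J n) F := (spCoe n F).comp (ρ.comp M.subtype)
    have hP : PHyp Ys' Yl' π := by
      refine ⟨hrel', ?_, ?_⟩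
      · intro a b hab t
        show ((ρ (M.subtype (Ys' a b t)) : symplecticGroup (Fin n) F) : Matrix (J n) (J n) F) = _
        rw [hs' a b hab t, hs a b hab t, coe_gS hab]
      · intro a t
        show ((ρ (M.subtype (Yl' a t)) : symplecticGroup (Fin n) F) : Matrix (J n) (J n) F) = _
        rw [hl' a t, hl a t, coe_gL]
    have hgen : Subgroup.closure (rootSet Ys' Yl') = ⊤ := by
      have hset : rootSet Ys' Yl' = ((↑) : M → P) ⁻¹' (rootSet Ys Yl) := by
        ext g
        constructor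
        · rintro (⟨a, b, t, hab, rfl⟩ | ⟨a, t, rfl⟩)
          · exact Or.inl ⟨a, b, t, hab, hs' a b hab t⟩
          · exact Or.inr ⟨a, t, rfl⟩
        · rintro (⟨a, b, t, hab, hg⟩ | ⟨a, t, hg⟩)
          · exact Or.inl ⟨a, b, t, hab, Subtype.ext (by rw [hg]; exact (hs' a b hab t).symm)⟩
          · exact Or.inr ⟨a, t, Subtype.ext hg⟩
      rw [hset]
      exact Subgroup.closure_closure_coe_preimage
    intro x hx h1
    have hπ : π ⟨x, hx⟩ = 1 := by
      show ((ρ x : symplecticGroup (Fin n) F) : Matrix (J n) (J n) F) = 1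
      rw [h1]
      rfl
    have := eq_one_of_pi_eq_one hn hP hgen hπ
    exact congrArg Subtype.val this

/-- S2092 -/
theorem main [Fintype F] (m : ℕ) (hm : 2 ≤ m) (h2 : m = 2 → 3 ≤ Fintype.card F)
    (hexc : ¬ (m = 3 ∧ Fintype.card F = 2)) :
    Cfsg.HasCyclicSchurMultiplier (Cfsg.PSp m F) (Nat.gcd 2 (Fintype.card F - 1)) := by
  have hq : 3 ≤ Fintype.card F ∨ 4 ≤ m := by
    by_cases h3 : 3 ≤ Fintype.card F
    · exact Or.inl h3
    · right
      have hc2 : Fintype.card F = 2 := by
        have := Fintype.one_lt_card (α := F)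
        omega
      rcases Nat.lt_or_ge m 4 with h | h
      · exfalso
        interval_cases m
        · exact h3 (h2 rfl)
        · exact hexc ⟨rfl, hc2⟩
      · exact h
  have hperf : commutator (symplecticGroup (Fin m) F) = ⊤ := by
    apply Cfsg.Agent.Helper2.Sp.commutator_symplectic_eq_top
    rcases Nat.lt_or_ge m 3 with h | h
    · right; left
      have : m = 2 := by omega
      exact ⟨this, h2 this⟩
    · exact Or.inl h
  obtain ⟨e⟩ := exists_center_iso (n := m) (F := F) (by omega)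
  have hker : (QuotientGroup.mk' (Subgroup.center (symplecticGroup (Fin m) F))).ker =
      Subgroup.center (symplecticGroup (Fin m) F) := QuotientGroup.ker_mk' _
  exact Cfsg.Agent.Helper11.Cover.hasSchurMultiplier_of_cover hperf
    (fun P _ _ ρ hρ => ker_eq_bot_sp hm hq P ρ hρ)
    (QuotientGroup.mk' (Subgroup.center (symplecticGroup (Fin m) F)))
    (QuotientGroup.mk'_surjective _) hker.le
    (e.trans (MulEquiv.subgroupCongr hker.symm))

end Cfsg.Agent.S2092P
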